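import Mathlib

/-!
# Functions on a union of two closed subschemes
-/

set_option autoImplicit false
set_option linter.style.haveILetI false
set_option backward.isDefEq.respectTransparency false

noncomputable section

universe u

open CategoryTheory CategoryTheory.Limits AlgebraicGeometry TopologicalSpace Opposite

namespace PinchPicLib

variable {X : Scheme.{u}} (I J : X.IdealSheafData)

/-- The inclusion of the intersection in the first part. -/
abbrev aI : (I ⊔ J).subscheme ⟶ I.subscheme := Scheme.IdealSheafData.inclusion le_sup_left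

/-- The inclusion of the intersection in the second part. -/
abbrev bJ : (I ⊔ J).subscheme ⟶ J.subscheme := Scheme.IdealSheafData.inclusion le_sup_right

theorem aI_ι : aI I J ≫ I.subschemeι = (I ⊔ J).subschemeι := Scheme.IdealSheafData.inclusion_subschemeι _
theorem bJ_ι : bJ I J ≫ J.subschemeι = (I ⊔ J).subschemeι := Scheme.IdealSheafData.inclusion_subschemeι _

theorem le_aI (U : X.Opens) : (I ⊔ J).subschemeι ⁻¹ᵁ U ≤ aI I J ⁻¹ᵁ (I.subschemeι ⁻¹ᵁ U) := by
  rw [← Scheme.Hom.comp_preimage, aI_ι]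

theorem le_bJ (U : X.Opens) : (I ⊔ J).subschemeι ⁻¹ᵁ U ≤ bJ I J ⁻¹ᵁ (J.subschemeι ⁻¹ᵁ U) := by
  rw [← Scheme.Hom.comp_preimage, bJ_ι]

theorem app_eq_of_comp {P Q R : Scheme.{u}} (g : P ⟶ Q) (h : Q ⟶ R) {h' : P ⟶ R} (e : g ≫ h = h') (U : R.Opens)
    (le : h' ⁻¹ᵁ U ≤ g ⁻¹ᵁ (h ⁻¹ᵁ U)) (r : Γ(R, U)) : g.appLE (h ⁻¹ᵁ U) (h' ⁻¹ᵁ U) le (h.app U r) = h'.app U r := by
  subst e
  show g.appLE (h ⁻¹ᵁ U) (g ⁻¹ᵁ (h ⁻¹ᵁ U)) le_rfl (h.app U r) = _
  rw [← Scheme.Hom.app_eq_appLE]
  rfl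

theorem aI_app (U : X.Opens) (r : Γ(X, U)) :
    (aI I J).appLE _ _ (le_aI I J U) (I.subschemeι.app U r) = (I ⊔ J).subschemeι.app U r :=
  app_eq_of_comp (aI I J) I.subschemeι (aI_ι I J) U (le_aI I J U) r

theorem bJ_app (U : X.Opens) (r : Γ(X, U)) :
    (bJ I J).appLE _ _ (le_bJ I J U) (J.subschemeι.app U r) = (I ⊔ J).subschemeι.app U r :=
  app_eq_of_comp (bJ I J) J.subschemeι (bJ_ι I J) U (le_bJ I J U) r

theorem app_map {P Q : Scheme.{u}} (g : P ⟶ Q) {U V : Q.Opens} (h : V ≤ U) (r : Γ(Q, U)) :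
    g.app V (Q.presheaf.map (homOfLE h).op r) = P.presheaf.map (homOfLE (g.preimage_mono h)).op (g.app U r) :=
  congr($(g.naturality (homOfLE h).op) r)

theorem appLE_map' {P Q : Scheme.{u}} (g : P ⟶ Q) {U U' : Q.Opens} {V V' : P.Opens} (le : V ≤ g ⁻¹ᵁ U)
    (le' : V' ≤ g ⁻¹ᵁ U') (hU : U' ≤ U) (hV : V' ≤ V) (r : Γ(Q, U)) :
    g.appLE U' V' le' (Q.presheaf.map (homOfLE hU).op r) = P.presheaf.map (homOfLE hV).op (g.appLE U V le r) := by
  rw [← ConcreteCategory.comp_apply, ← ConcreteCategory.comp_apply, Scheme.Hom.map_appLE, Scheme.Hom.appLE_map]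

variable {I J} (hIJ : I ⊓ J = ⊥)

include hIJ

theorem eq_of_app_affine (U : X.affineOpens) (r s : Γ(X, U.1)) (h₁ : I.subschemeι.app U r = I.subschemeι.app U s)
    (h₂ : J.subschemeι.app U r = J.subschemeι.app U s) : r = s := by
  have m₁ : r - s ∈ I.ideal U := by
    rw [← I.ker_subschemeι_app U, RingHom.mem_ker, map_sub, h₁, sub_self]
  have m₂ : r - s ∈ J.ideal U := by
    rw [← J.ker_subschemeι_app U, RingHom.mem_ker, map_sub, h₂, sub_self]
  have m : r - s ∈ (I ⊓ J).ideal U := by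
    rw [Scheme.IdealSheafData.ideal_inf]; exact ⟨m₁, m₂⟩
  rw [hIJ] at m
  exact sub_eq_zero.1 (by simpa using m)

/-- Functions are determined by their restrictions to the two parts. -/
theorem eq_of_app (U : X.Opens) (r s : Γ(X, U)) (h₁ : I.subschemeι.app U r = I.subschemeι.app U s)
    (h₂ : J.subschemeι.app U r = J.subschemeι.app U s) : r = s := by
  have hVex : ∀ x : U, ∃ V : X.Opens, IsAffineOpen V ∧ x.1 ∈ V ∧ V ≤ U := fun x =>
    exists_isAffineOpen_mem_and_subset (U := U) x.2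
  choose V hV hxV hVU using hVex
  refine X.sheaf.eq_of_locally_eq' (fun x : U => V x) U (fun x => homOfLE (hVU x))
    (fun x hx => Opens.mem_iSup.2 ⟨⟨x, hx⟩, hxV ⟨x, hx⟩⟩) r s fun x => ?_
  refine eq_of_app_affine hIJ ⟨V x, hV x⟩ _ _ ?_ ?_
  · show I.subschemeι.app (V x) (X.presheaf.map (homOfLE (hVU x)).op r) =
      I.subschemeι.app (V x) (X.presheaf.map (homOfLE (hVU x)).op s)
    rw [app_map, app_map, h₁]
  · show J.subschemeι.app (V x) (X.presheaf.map (homOfLE (hVU x)).op r) =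
      J.subschemeι.app (V x) (X.presheaf.map (homOfLE (hVU x)).op s)
    rw [app_map, app_map, h₂]

/-- Functions on the two parts which agree on the intersection glue. -/
theorem exists_app (U : X.Opens) (u : Γ(I.subscheme, I.subschemeι ⁻¹ᵁ U)) (v : Γ(J.subscheme, J.subschemeι ⁻¹ᵁ U))
    (h : (aI I J).appLE _ _ (le_aI I J U) u = (bJ I J).appLE _ _ (le_bJ I J U) v) :
    ∃ r : Γ(X, U), I.subschemeι.app U r = u ∧ J.subschemeι.app U r = v := by
  have hVex : ∀ x : U, ∃ V : X.Opens, IsAffineOpen V ∧ x.1 ∈ V ∧ V ≤ U := fun x =>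
    exists_isAffineOpen_mem_and_subset (U := U) x.2
  choose V hV hxV hVU using hVex
  have hex : ∀ x, ∃ r : Γ(X, V x),
      I.subschemeι.app (V x) r = I.subscheme.presheaf.map (homOfLE (I.subschemeι.preimage_mono (hVU x))).op u ∧
      J.subschemeι.app (V x) r = J.subscheme.presheaf.map (homOfLE (J.subschemeι.preimage_mono (hVU x))).op v := by
    intro x
    obtain ⟨r₁, hr₁⟩ := I.subschemeι_app_surjective ⟨V x, hV x⟩
      (I.subscheme.presheaf.map (homOfLE (I.subschemeι.preimage_mono (hVU x))).op u)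
    obtain ⟨r₂, hr₂⟩ := J.subschemeι_app_surjective ⟨V x, hV x⟩
      (J.subscheme.presheaf.map (homOfLE (J.subschemeι.preimage_mono (hVU x))).op v)
    have hk : (I ⊔ J).subschemeι.app (V x) r₁ = (I ⊔ J).subschemeι.app (V x) r₂ := by
      rw [← aI_app, ← bJ_app]
      erw [hr₁, hr₂]
      rw [appLE_map' (aI I J) (le_aI I J U) _ _ ((I ⊔ J).subschemeι.preimage_mono (hVU x)),
        appLE_map' (bJ I J) (le_bJ I J U) _ _ ((I ⊔ J).subschemeι.preimage_mono (hVU x)), h]
    have hm : r₁ - r₂ ∈ (I ⊔ J).ideal ⟨V x, hV x⟩ := by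
      rw [← (I ⊔ J).ker_subschemeι_app ⟨V x, hV x⟩, RingHom.mem_ker, map_sub]
      exact sub_eq_zero.2 hk
    rw [Scheme.IdealSheafData.ideal_sup] at hm
    obtain ⟨p, hp, q, hq, hpq⟩ := Submodule.mem_sup.1 hm
    have hp0 : I.subschemeι.app (V x) p = 0 := by
      rw [← RingHom.mem_ker]; exact (I.ker_subschemeι_app ⟨V x, hV x⟩).symm ▸ hp
    have hq0 : J.subschemeι.app (V x) q = 0 := by
      rw [← RingHom.mem_ker]; exact (J.ker_subschemeι_app ⟨V x, hV x⟩).symm ▸ hq
    refine ⟨r₁ - p, ?_, ?_⟩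
    · rw [map_sub, hp0, sub_zero]; exact hr₁
    · rw [show r₁ - p = r₂ + q by rw [sub_eq_iff_eq_add, add_assoc, add_comm q p, hpq]; ring, map_add, hq0,
        add_zero]
      exact hr₂
  choose r hr₁ hr₂ using hex
  obtain ⟨g, hg, -⟩ := X.sheaf.existsUnique_gluing' (fun x : U => V x) U (fun x => homOfLE (hVU x))
    (fun x hx => Opens.mem_iSup.2 ⟨⟨x, hx⟩, hxV ⟨x, hx⟩⟩) r fun x y => by
      refine eq_of_app hIJ _ _ _ ?_ ?_
      · show I.subschemeι.app _ (X.presheaf.map (homOfLE inf_le_left).op (r x)) =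
          I.subschemeι.app _ (X.presheaf.map (homOfLE inf_le_right).op (r y))
        rw [app_map, app_map, hr₁, hr₁, ← ConcreteCategory.comp_apply, ← ConcreteCategory.comp_apply,
          ← Functor.map_comp, ← Functor.map_comp]
        rfl
      · show J.subschemeι.app _ (X.presheaf.map (homOfLE inf_le_left).op (r x)) =
          J.subschemeι.app _ (X.presheaf.map (homOfLE inf_le_right).op (r y))
        rw [app_map, app_map, hr₂, hr₂, ← ConcreteCategory.comp_apply, ← ConcreteCategory.comp_apply,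
          ← Functor.map_comp, ← Functor.map_comp]
        rfl
  refine ⟨g, ?_, ?_⟩
  · refine I.subscheme.sheaf.eq_of_locally_eq' (fun x : U => I.subschemeι ⁻¹ᵁ V x) (I.subschemeι ⁻¹ᵁ U)
      (fun x => homOfLE (I.subschemeι.preimage_mono (hVU x)))
      (fun z hz => Opens.mem_iSup.2 ⟨⟨I.subschemeι z, hz⟩, hxV ⟨I.subschemeι z, hz⟩⟩) _ _ fun x => ?_
    show I.subscheme.presheaf.map (homOfLE (I.subschemeι.preimage_mono (hVU x))).op (I.subschemeι.app U g) = _
    rw [← app_map I.subschemeι (hVU x) g, show X.presheaf.map (homOfLE (hVU x)).op g = r x from hg x]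
    exact hr₁ x
  · refine J.subscheme.sheaf.eq_of_locally_eq' (fun x : U => J.subschemeι ⁻¹ᵁ V x) (J.subschemeι ⁻¹ᵁ U)
      (fun x => homOfLE (J.subschemeι.preimage_mono (hVU x)))
      (fun z hz => Opens.mem_iSup.2 ⟨⟨J.subschemeι z, hz⟩, hxV ⟨J.subschemeι z, hz⟩⟩) _ _ fun x => ?_
    show J.subscheme.presheaf.map (homOfLE (J.subschemeι.preimage_mono (hVU x))).op (J.subschemeι.app U g) = _
    rw [← app_map J.subschemeι (hVU x) g, show X.presheaf.map (homOfLE (hVU x)).op g = r x from hg x]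
    exact hr₂ x

/-- A function is a unit if its restrictions to the two parts are. -/
theorem isUnit_of_app (U : X.Opens) (r : Γ(X, U)) (u' : Γ(I.subscheme, I.subschemeι ⁻¹ᵁ U))
    (v' : Γ(J.subscheme, J.subschemeι ⁻¹ᵁ U)) (hu : I.subschemeι.app U r * u' = 1)
    (hv : J.subschemeι.app U r * v' = 1) : IsUnit r := by
  have h : (aI I J).appLE _ _ (le_aI I J U) u' = (bJ I J).appLE _ _ (le_bJ I J U) v' := by
    have h₁ := congrArg ((aI I J).appLE _ _ (le_aI I J U)) hu
    have h₂ := congrArg ((bJ I J).appLE _ _ (le_bJ I J U)) hv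
    rw [map_mul, map_one, aI_app] at h₁
    rw [map_mul, map_one, bJ_app] at h₂
    calc (aI I J).appLE _ _ (le_aI I J U) u'
        = ((I ⊔ J).subschemeι.app U r * (bJ I J).appLE _ _ (le_bJ I J U) v') *
            (aI I J).appLE _ _ (le_aI I J U) u' := by rw [h₂, one_mul]
      _ = ((I ⊔ J).subschemeι.app U r * (aI I J).appLE _ _ (le_aI I J U) u') *
            (bJ I J).appLE _ _ (le_bJ I J U) v' := by ring
      _ = _ := by rw [h₁, one_mul]
  obtain ⟨s, hs₁, hs₂⟩ := exists_app hIJ U u' v' h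
  exact isUnit_iff_exists_inv.2 ⟨s, eq_of_app hIJ U _ _ (by rw [map_mul, hs₁, hu, map_one])
    (by rw [map_mul, hs₂, hv, map_one])⟩

end PinchPicLib
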