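import Groth.Agent.PinchPicLib.Basic
import Groth.Agent.DescAppLib.LineApps
import Groth.Agent.TwistLib.HomGlue
import Groth.Agent.MiscFlat6.TwistMod
import Groth.Agent.MiscFlat6.QALocus
import Groth.Agent.ModGlueLib.Basic

/-!
# Line bundles on a union of two closed subschemes
-/

set_option autoImplicit false
set_option linter.style.haveILetI false
set_option backward.isDefEq.respectTransparency false
set_option backward.isDefEq.respectTransparency.types false
set_option maxHeartbeats 1000000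

noncomputable section

universe u

open CategoryTheory CategoryTheory.Limits AlgebraicGeometry TopologicalSpace Opposite
open AmpleLib (GenOn res res_res res_smul res_refl)
open KFlatLib (pb puSecLE)
open QCohDescLib (pullLE)
open MiscFlat6 (Cocycle tw twUntriv twVal)
open AmpleThLib

namespace PinchPicLib

/-- Generators with the same transition functions give isomorphic modules. -/
theorem nonempty_iso_of_gens {X : Scheme.{u}} {M N : X.Modules} {ι : Type*} (D : ι → X.Opens)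
    (hcov : ∀ x : X, ∃ a, x ∈ D a) (e : ∀ a, Γ(M, D a)) (f : ∀ a, Γ(N, D a)) (he : ∀ a, GenOn M (e a))
    (hf : ∀ a, GenOn N (f a))
    (hrel : ∀ a b, ∃ c : Γ(X, D a ⊓ D b),
      res M (inf_le_right : D a ⊓ D b ≤ D b) (e b) = c • res M (inf_le_left : D a ⊓ D b ≤ D a) (e a) ∧
      res N (inf_le_right : D a ⊓ D b ≤ D b) (f b) = c • res N (inf_le_left : D a ⊓ D b ≤ D a) (f a)) :
    Nonempty (M ≅ N) := by
  have key : ∀ {P Q : X.Modules} (p : ∀ a, Γ(P, D a)) (q : ∀ a, Γ(Q, D a)) (_ : ∀ a, GenOn P (p a)),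
      (∀ a b, ∃ c : Γ(X, D a ⊓ D b),
        res P (inf_le_right : D a ⊓ D b ≤ D b) (p b) = c • res P (inf_le_left : D a ⊓ D b ≤ D a) (p a) ∧
        res Q (inf_le_right : D a ⊓ D b ≤ D b) (q b) = c • res Q (inf_le_left : D a ⊓ D b ≤ D a) (q a)) →
      ∀ (a b : ι) (V : X.Opens) (ha : V ≤ D a) (hb : V ≤ D b) (d : Γ(X, V)),
        d • res P ha (p a) = res P hb (p b) → d • res Q ha (q a) = res Q hb (q b) := by
    intro P Q p q hp hr a b V ha hb d hd
    obtain ⟨c, hcp, hcq⟩ := hr a b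
    have h1 := congrArg (res P (le_inf ha hb)) hcp
    have h2 := congrArg (res Q (le_inf ha hb)) hcq
    rw [res_smul, res_res, res_res] at h1 h2
    rw [h1] at hd
    rw [(hp a V ha).1 hd, h2]
  obtain ⟨β, hβ⟩ := TwistLib.exists_hom_of_gens D e f hcov he (key e f he hrel)
  obtain ⟨β', hβ'⟩ := TwistLib.exists_hom_of_gens D f e hcov hf
    (key f e hf fun a b => (hrel a b).imp fun c h => ⟨h.2, h.1⟩)
  have hid : ∀ {P : X.Modules} (p : ∀ a, Γ(P, D a)) (_ : ∀ a, GenOn P (p a)) (φ : P ⟶ P),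
      (∀ a, φ.app (D a) (p a) = p a) → φ = 𝟙 P := by
    intro P p hp φ h
    refine Scheme.Modules.hom_ext _ _ fun V => ConcreteCategory.hom_ext _ _ fun t => ?_
    show φ.app V t = t
    refine ModGlueLib.eq_of_locally _ _ fun x hx => ?_
    obtain ⟨a, ha⟩ := hcov x
    refine ⟨V ⊓ D a, inf_le_left, ⟨hx, ha⟩, ?_⟩
    obtain ⟨d, hd⟩ := (hp a (V ⊓ D a) inf_le_right).2 (res P (inf_le_left : V ⊓ D a ≤ V) t)
    dsimp only at hd
    show res P (inf_le_left : V ⊓ D a ≤ V) (φ.app V t) = res P (inf_le_left : V ⊓ D a ≤ V) t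
    rw [show res P (inf_le_left : V ⊓ D a ≤ V) (φ.app V t) = φ.app (V ⊓ D a) (res P inf_le_left t) from
      (QCohLib.app_map φ _ _).symm, ← hd, QCohLib.app_smul,
      show φ.app (V ⊓ D a) (res P inf_le_right (p a)) = res P inf_le_right (φ.app (D a) (p a)) from
        QCohLib.app_map φ _ _, h]
  exact ⟨⟨β, β', hid e he _ fun a => (congrArg (β'.app (D a)) (hβ a)).trans (hβ' a),
    hid f hf _ fun a => (congrArg (β.app (D a)) (hβ' a)).trans (hβ a)⟩⟩

theorem subsingleton_of_forall_notMem {X : Scheme.{u}} (M : X.Modules) {V : X.Opens} (hV : ∀ x, x ∉ V)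
    (s t : Γ(M, V)) : s = t :=
  ModGlueLib.eq_of_locally s t fun x hx => absurd hx (hV x)

variable {X : Scheme.{u}} {I J : X.IdealSheafData} (hIJ : I ⊓ J = ⊥)

include hIJ

/-- Sections of a line bundle are determined by their restrictions to the two parts. -/
theorem eq_of_puSecLE {L : X.Modules} (hL : PicF.IsInvertible L) (T : X.Opens) (s t : Γ(L, T))
    (h₁ : puSecLE I.subschemeι L (le_refl (I.subschemeι ⁻¹ᵁ T)) s = puSecLE I.subschemeι L le_rfl t)
    (h₂ : puSecLE J.subschemeι L (le_refl (J.subschemeι ⁻¹ᵁ T)) s = puSecLE J.subschemeι L le_rfl t) : s = t := by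
  refine ModGlueLib.eq_of_locally s t fun x hx => ?_
  obtain ⟨U, e, hxU, he⟩ := TwistLib.exists_genOn hL x
  let V := T ⊓ U
  refine ⟨V, inf_le_left, ⟨hx, hxU⟩, ?_⟩
  obtain ⟨c, hc⟩ := (he V inf_le_right).2 (res L (inf_le_left : V ≤ T) s)
  obtain ⟨d, hd⟩ := (he V inf_le_right).2 (res L (inf_le_left : V ≤ T) t)
  dsimp only at hc hd
  show res L inf_le_left s = res L inf_le_left t
  rw [← hc, ← hd]
  refine congrArg (· • _) (eq_of_app hIJ V c d ?_ ?_)
  · have h := congrArg (res (pb I.subschemeι L) (I.subschemeι.preimage_mono (inf_le_left : V ≤ T))) h₁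
    rw [CubeLib.res_puSecLE, CubeLib.res_puSecLE,
      ← CubeLib.puSecLE_res I.subschemeι L (inf_le_left : V ≤ T) le_rfl s,
      ← CubeLib.puSecLE_res I.subschemeι L (inf_le_left : V ≤ T) le_rfl t, ← hc, ← hd,
      KFlatLib.puSecLE_smul, KFlatLib.puSecLE_smul] at h
    rw [Scheme.Hom.app_eq_appLE]
    exact ((CubeLib.genOn_puSecLE I.subschemeι (he.res (inf_le_right : V ≤ U)) le_rfl) _ le_rfl).1
      (by simp only [res_refl]; exact h)
  · have h := congrArg (res (pb J.subschemeι L) (J.subschemeι.preimage_mono (inf_le_left : V ≤ T))) h₂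
    rw [CubeLib.res_puSecLE, CubeLib.res_puSecLE,
      ← CubeLib.puSecLE_res J.subschemeι L (inf_le_left : V ≤ T) le_rfl s,
      ← CubeLib.puSecLE_res J.subschemeι L (inf_le_left : V ≤ T) le_rfl t, ← hc, ← hd,
      KFlatLib.puSecLE_smul, KFlatLib.puSecLE_smul] at h
    rw [Scheme.Hom.app_eq_appLE]
    exact ((CubeLib.genOn_puSecLE J.subschemeι (he.res (inf_le_right : V ≤ U)) le_rfl) _ le_rfl).1
      (by simp only [res_refl]; exact h)

/-- A line bundle with compatible trivialisations on the two parts is trivial. -/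
theorem trivial_union {L : X.Modules} (hL : PicF.IsInvertible L) {γY : Γ(pb I.subschemeι L, ⊤)}
    (hY : GenOn (pb I.subschemeι L) γY) {γZ : Γ(pb J.subschemeι L, ⊤)} (hZ : GenOn (pb J.subschemeι L) γZ)
    (h : pullLE L (aI I J) (aI_ι I J) (DescAppLib.top_le _) γY = pullLE L (bJ I J) (bJ_ι I J) (DescAppLib.top_le _) γZ) :
    Nonempty (L ≅ Coh.structureModule X) := by
  choose U e hxU he using fun x => TwistLib.exists_genOn hL x
  have hex : ∀ x, ∃ e' : Γ(L, U x), GenOn L e' ∧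
      puSecLE I.subschemeι L (le_refl (I.subschemeι ⁻¹ᵁ U x)) e' = res (pb I.subschemeι L) le_top γY ∧
      puSecLE J.subschemeι L (le_refl (J.subschemeι ⁻¹ᵁ U x)) e' = res (pb J.subschemeι L) le_top γZ := by
    intro x
    have gY := CubeLib.genOn_puSecLE I.subschemeι (he x) (le_refl (I.subschemeι ⁻¹ᵁ U x))
    have gZ := CubeLib.genOn_puSecLE J.subschemeι (he x) (le_refl (J.subschemeι ⁻¹ᵁ U x))
    obtain ⟨α, hα⟩ := (gY _ le_rfl).2 (res (pb I.subschemeι L) le_top γY)
    obtain ⟨β, hβ⟩ := (gZ _ le_rfl).2 (res (pb J.subschemeι L) le_top γZ)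
    simp only [res_refl] at hα hβ
    obtain ⟨α', hα'⟩ := isUnit_iff_exists_inv.1
      (CubeLib.isUnit_of_genOn gY (a := α) (hα.symm ▸ hY.res le_top))
    obtain ⟨β', hβ'⟩ := isUnit_iff_exists_inv.1
      (CubeLib.isUnit_of_genOn gZ (a := β) (hβ.symm ▸ hZ.res le_top))
    have hW : (aI I J).appLE _ _ (le_aI I J (U x)) α = (bJ I J).appLE _ _ (le_bJ I J (U x)) β := by
      have h' := congrArg (res (pb (I ⊔ J).subschemeι L) (le_top : (I ⊔ J).subschemeι ⁻¹ᵁ U x ≤ ⊤)) h
      change (pb (I ⊔ J).subschemeι L).presheaf.map _ _ = (pb (I ⊔ J).subschemeι L).presheaf.map _ _ at h'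
      rw [QCohDescLib.map_pullLE L (aI I J) (aI_ι I J) _ le_top ((le_aI I J (U x)).trans ((aI I J).preimage_mono le_top)),
        QCohDescLib.map_pullLE L (bJ I J) (bJ_ι I J) _ le_top ((le_bJ I J (U x)).trans ((bJ I J).preimage_mono le_top)),
        ← QCohDescLib.pullLE_map L (aI I J) (aI_ι I J) le_top (le_aI I J (U x)) _ γY,
        ← QCohDescLib.pullLE_map L (bJ I J) (bJ_ι I J) le_top (le_bJ I J (U x)) _ γZ] at h'
      change pullLE L (aI I J) (aI_ι I J) (le_aI I J (U x)) (res (pb I.subschemeι L) le_top γY) =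
        pullLE L (bJ I J) (bJ_ι I J) (le_bJ I J (U x)) (res (pb J.subschemeι L) le_top γZ) at h'
      rw [← hα, ← hβ, QCohDescLib.pullLE_smul, QCohDescLib.pullLE_smul,
        QCohDescLib.pullLE_puSecLE L (aI I J) (aI_ι I J) le_rfl (le_aI I J (U x)) le_rfl,
        QCohDescLib.pullLE_puSecLE L (bJ I J) (bJ_ι I J) le_rfl (le_bJ I J (U x)) le_rfl] at h'
      exact ((CubeLib.genOn_puSecLE (I ⊔ J).subschemeι (he x) le_rfl) _ le_rfl).1 (by simp only [res_refl]; exact h')
    obtain ⟨r, hr₁, hr₂⟩ := exists_app hIJ (U x) α β hW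
    refine ⟨r • e x, CubeLib.genOn_unit_smul (he x)
      (isUnit_of_app hIJ (U x) r α' β' (by rw [hr₁]; exact hα') (by rw [hr₂]; exact hβ')), ?_, ?_⟩
    · rw [KFlatLib.puSecLE_smul, ← Scheme.Hom.app_eq_appLE, hr₁]
      exact hα
    · rw [KFlatLib.puSecLE_smul, ← Scheme.Hom.app_eq_appLE, hr₂]
      exact hβ
  choose e' he' hY' hZ' using hex
  obtain ⟨s, hs, -⟩ := CubeLib.trivial_of_compatible U (fun x => ⟨x, hxU x⟩) e' he' fun x y => by
    refine eq_of_puSecLE hIJ hL _ _ _ ?_ ?_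
    · rw [CubeLib.puSecLE_res, CubeLib.puSecLE_res,
        ← CubeLib.res_puSecLE I.subschemeι L (le_refl (I.subschemeι ⁻¹ᵁ U x)) (I.subschemeι.preimage_mono inf_le_left),
        ← CubeLib.res_puSecLE I.subschemeι L (le_refl (I.subschemeι ⁻¹ᵁ U y)) (I.subschemeι.preimage_mono inf_le_right),
        hY', hY', res_res, res_res]
    · rw [CubeLib.puSecLE_res, CubeLib.puSecLE_res,
        ← CubeLib.res_puSecLE J.subschemeι L (le_refl (J.subschemeι ⁻¹ᵁ U x)) (J.subschemeι.preimage_mono inf_le_left),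
        ← CubeLib.res_puSecLE J.subschemeι L (le_refl (J.subschemeι ⁻¹ᵁ U y)) (J.subschemeι.preimage_mono inf_le_right),
        hZ', hZ', res_res, res_res]
  exact CubeLib.trivial_of_genOn_top hs

end PinchPicLib
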