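import Groth.Agent.PinchPicLib.Gen

/-!
# Gluing line bundles on a union of two closed subschemes
-/

set_option autoImplicit false
set_option linter.style.haveILetI false
set_option backward.isDefEq.respectTransparency false
set_option backward.isDefEq.respectTransparency.types false
set_option maxHeartbeats 1000000

noncomputable section

universe u

open CategoryTheory CategoryTheory.Limits AlgebraicGeometry TopologicalSpace Opposite
open AmpleLib (GenOn res res_res res_smul res_refl)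
open KFlatLib (pb puSecLE)
open MiscFlat6 (Cocycle tw twUntriv twVal)
open AmpleThLib

namespace PinchPicLib

section Twist

variable {X : Scheme.{u}} {G : Type u} {D : G → X.Opens} (C : Cocycle G D)

/-- The generator of the twist of the structure sheaf over a chart. -/
def twGen (a : G) : Γ(tw C (Coh.structureModule X), D a) :=
  twUntriv a le_rfl (show Γ(Coh.structureModule X, D a) from (1 : Γ(X, D a)))

theorem res_one {V W : X.Opens} (h : V ≤ W) :
    res (Coh.structureModule X) h (show Γ(Coh.structureModule X, W) from (1 : Γ(X, W))) =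
      (show Γ(Coh.structureModule X, V) from (1 : Γ(X, V))) :=
  map_one (X.presheaf.map (homOfLE h).op).hom

theorem twVal_smul_res_twGen (a : G) {V : X.Opens} (hV : V ≤ D a) (r : Γ(X, V)) (d : G) :
    twVal (r • res (tw C (Coh.structureModule X)) hV (twGen C a)) d =
      (show Γ(Coh.structureModule X, V ⊓ D d) from
        rX inf_le_left r * rX (le_inf inf_le_right (inf_le_left.trans hV)) (C.c d a)) := by
  rw [MiscFlat6.twVal_smul, MiscFlat6.twVal_res, twGen, twUntriv, MiscFlat6.twVal_mk, res_smul, res_res, res_one]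
  exact congrArg (rX inf_le_left r * ·) ((mul_one _).trans (MiscFlat6.rX_rX _ _ _))

theorem genOn_twGen (a : G) : GenOn (tw C (Coh.structureModule X)) (twGen C a) := by
  intro V hV
  have key : (fun r : Γ(X, V) => r • res (tw C (Coh.structureModule X)) hV (twGen C a)) =
      fun r => twUntriv a hV (show Γ(Coh.structureModule X, V) from r) := funext fun r => MiscFlat6.tw_ext fun d => by
    rw [twVal_smul_res_twGen, twUntriv, MiscFlat6.twVal_mk]
    exact @mul_comm Γ(X, V ⊓ D d) _ _ _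
  rw [key]
  refine ⟨fun r r' h => ?_, fun f => ⟨res (Coh.structureModule X) (le_inf le_rfl hV) (twVal f a),
    MiscFlat6.twUntriv_val a hV f⟩⟩
  have h' := congrArg (fun f => res (Coh.structureModule X) (le_inf le_rfl hV) (twVal f a)) h
  simp only [MiscFlat6.twVal_untriv_self, res_res, res_refl] at h'
  exact h'

theorem res_twGen (a b : G) :
    res (tw C (Coh.structureModule X)) (inf_le_right : D a ⊓ D b ≤ D b) (twGen C b) =
      C.c a b • res (tw C (Coh.structureModule X)) (inf_le_left : D a ⊓ D b ≤ D a) (twGen C a) := by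
  refine MiscFlat6.tw_ext fun d => ?_
  rw [twVal_smul_res_twGen, ← one_smul Γ(X, D a ⊓ D b)
    (res (tw C (Coh.structureModule X)) (inf_le_right : D a ⊓ D b ≤ D b) (twGen C b)), twVal_smul_res_twGen]
  show (rX _ (1 : Γ(X, D a ⊓ D b)) * rX _ (C.c d b) : Γ(X, (D a ⊓ D b) ⊓ D d)) = rX _ (C.c a b) * rX _ (C.c d a)
  rw [show rX _ (1 : Γ(X, D a ⊓ D b)) = 1 from map_one (X.presheaf.map _).hom, one_mul]
  exact (((mul_comm _ _).trans (C.trans d a b ((D a ⊓ D b) ⊓ D d) inf_le_right
    (inf_le_left.trans inf_le_left) (inf_le_left.trans inf_le_right)))).symm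

end Twist

variable {X : Scheme.{u}} {I J : X.IdealSheafData}

theorem exists_genOn_preimage (I : X.IdealSheafData) {y : I.subscheme.Modules} (hy : PicF.IsInvertible y) (x : X) :
    ∃ (U : X.Opens) (e : Γ(y, I.subschemeι ⁻¹ᵁ U)), x ∈ U ∧ GenOn y e := by
  by_cases hx : x ∈ Set.range I.subschemeι
  · obtain ⟨z, rfl⟩ := hx
    obtain ⟨O, e, hzO, he⟩ := TwistLib.exists_genOn hy z
    obtain ⟨U, hU, hUO⟩ := I.subschemeι.isClosedEmbedding.isInducing.isOpen_iff.1 O.isOpen
    have hle : I.subschemeι ⁻¹ᵁ ⟨U, hU⟩ ≤ O := fun w hw => by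
      show w ∈ (O : Set I.subscheme)
      rw [← hUO]; exact hw
    exact ⟨⟨U, hU⟩, res y hle e, (show z ∈ I.subschemeι ⁻¹' U by rw [hUO]; exact hzO), he.res hle⟩
  · refine ⟨⟨(Set.range I.subschemeι)ᶜ, I.subschemeι.isClosedEmbedding.isClosed_range.isOpen_compl⟩, 0, hx, ?_⟩
    exact TwistLib.genOn_of_genAt fun w hw => absurd ⟨w, rfl⟩ hw

variable {y : I.subscheme.Modules} {z : J.subscheme.Modules} (φ : pb (aI I J) y ≅ pb (bJ I J) z)

theorem app_puSecLE_res {U V : X.Opens} (hV : V ≤ U) (eY : Γ(y, I.subschemeι ⁻¹ᵁ U)) :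
    φ.hom.app _ (puSecLE (aI I J) y (le_aI I J V) (res y (I.subschemeι.preimage_mono hV) eY)) =
      res (pb (bJ I J) z) ((I ⊔ J).subschemeι.preimage_mono hV) (φ.hom.app _ (puSecLE (aI I J) y (le_aI I J U) eY)) := by
  rw [CubeLib.puSecLE_res, ← CubeLib.res_puSecLE (aI I J) y (le_aI I J U) ((I ⊔ J).subschemeι.preimage_mono hV)]
  exact QCohLib.app_map φ.hom _ _

theorem exists_matching_gens (hy : PicF.IsInvertible y) (hz : PicF.IsInvertible z) (x : X) :
    ∃ (U : X.Opens) (eY : Γ(y, I.subschemeι ⁻¹ᵁ U)) (eZ : Γ(z, J.subschemeι ⁻¹ᵁ U)), x ∈ U ∧ GenOn y eY ∧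
      GenOn z eZ ∧ φ.hom.app _ (puSecLE (aI I J) y (le_aI I J U) eY) = puSecLE (bJ I J) z (le_bJ I J U) eZ := by
  obtain ⟨U₁, e₁, hx₁, he₁⟩ := exists_genOn_preimage I hy x
  obtain ⟨U₂, e₂, hx₂, he₂⟩ := exists_genOn_preimage J hz x
  obtain ⟨U₀, hU₀, hx₀, hle⟩ := exists_isAffineOpen_mem_and_subset (U := U₁ ⊓ U₂) (x := x) ⟨hx₁, hx₂⟩
  have hU₁ : U₀ ≤ U₁ := fun w hw => (hle hw).1
  have hU₂ : U₀ ≤ U₂ := fun w hw => (hle hw).2
  let eY₀ := res y (I.subschemeι.preimage_mono hU₁) e₁
  let eZ₀ := res z (J.subschemeι.preimage_mono hU₂) e₂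
  have heY₀ : GenOn y eY₀ := he₁.res _
  have heZ₀ : GenOn z eZ₀ := he₂.res _
  by_cases hx : x ∈ Set.range (I ⊔ J).subschemeι
  · have gY : GenOn (pb (bJ I J) z) (φ.hom.app _ (puSecLE (aI I J) y (le_aI I J U₀) eY₀)) :=
      TwistLib.genOn_of_genAt fun w hw =>
        (TwistLib.genAt_app_iso φ _ hw).2 ((CubeLib.genOn_puSecLE (aI I J) heY₀ (le_aI I J U₀)).genAt hw)
    have gZ := CubeLib.genOn_puSecLE (bJ I J) heZ₀ (le_bJ I J U₀)
    obtain ⟨w, hw⟩ := (gZ _ le_rfl).2 (φ.hom.app _ (puSecLE (aI I J) y (le_aI I J U₀) eY₀))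
    simp only [res_refl] at hw
    have hwu : IsUnit w := CubeLib.isUnit_of_genOn gZ (by rw [hw]; exact gY)
    obtain ⟨f, hf⟩ := (I ⊔ J).subschemeι_app_surjective ⟨U₀, hU₀⟩ w
    let U := X.basicOpen f
    have hUU : U ≤ U₀ := X.basicOpen_le f
    have hxU : x ∈ U := by
      obtain ⟨p, rfl⟩ := hx
      show p ∈ (I ⊔ J).subschemeι ⁻¹ᵁ X.basicOpen f
      rw [Scheme.preimage_basicOpen]
      erw [hf]
      rw [Scheme.basicOpen_of_isUnit _ hwu]
      exact hx₀
    refine ⟨U, res y (I.subschemeι.preimage_mono hUU) eY₀,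
      J.subschemeι.app U (rX hUU f) • res z (J.subschemeι.preimage_mono hUU) eZ₀, hxU, heY₀.res _,
      CubeLib.genOn_unit_smul (heZ₀.res _)
        ((RingedSpace.isUnit_res_basicOpen X.toLocallyRingedSpace.toRingedSpace f).map (J.subschemeι.app U).hom), ?_⟩
    rw [app_puSecLE_res φ hUU eY₀, KFlatLib.puSecLE_smul, bJ_app,
      CubeLib.puSecLE_res (bJ I J) z (J.subschemeι.preimage_mono hUU) (le_bJ I J U) eZ₀,
      ← CubeLib.res_puSecLE (bJ I J) z (le_bJ I J U₀) ((I ⊔ J).subschemeι.preimage_mono hUU), ← hw, res_smul]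
    refine congrArg (· • _) ?_
    show (I ⊔ J).subscheme.presheaf.map (homOfLE ((I ⊔ J).subschemeι.preimage_mono hUU)).op w = _
    rw [← hf]
    exact (app_map (I ⊔ J).subschemeι hUU f).symm
  · let U : X.Opens := U₀ ⊓ ⟨(Set.range (I ⊔ J).subschemeι)ᶜ, (I ⊔ J).subschemeι.isClosedEmbedding.isClosed_range.isOpen_compl⟩
    exact ⟨U, res y (I.subschemeι.preimage_mono inf_le_left) eY₀, res z (J.subschemeι.preimage_mono inf_le_left) eZ₀,
      ⟨hx₀, hx⟩, heY₀.res _, heZ₀.res _,
      subsingleton_of_forall_notMem _ (fun w hw => absurd ⟨w, rfl⟩ (And.right (show (I ⊔ J).subschemeι w ∈ U₀ ∧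
        (I ⊔ J).subschemeι w ∉ Set.range (I ⊔ J).subschemeι from hw))) _ _⟩

/-- Line bundles on the two parts with an isomorphism on the intersection come from the union. -/
theorem exists_glue (hIJ : I ⊓ J = ⊥) (hy : PicF.IsInvertible y) (hz : PicF.IsInvertible z)
    (φ : pb (aI I J) y ≅ pb (bJ I J) z) :
    ∃ L : X.Modules, PicF.IsInvertible L ∧ Nonempty (pb I.subschemeι L ≅ y) ∧ Nonempty (pb J.subschemeι L ≅ z) := by
  choose U eY eZ hxU hY hZ hYZ using exists_matching_gens φ hy hz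
  have hc : ∀ a b : X, ∃ c : Γ(X, U a ⊓ U b),
      I.subschemeι.app _ c • res y (I.subschemeι.preimage_mono inf_le_left) (eY a) =
        res y (I.subschemeι.preimage_mono inf_le_right) (eY b) ∧
      J.subschemeι.app _ c • res z (J.subschemeι.preimage_mono inf_le_left) (eZ a) =
        res z (J.subschemeι.preimage_mono inf_le_right) (eZ b) := by
    intro a b
    obtain ⟨α, hα⟩ := ((hY a) (I.subschemeι ⁻¹ᵁ (U a ⊓ U b)) (I.subschemeι.preimage_mono inf_le_left)).2
      (res y (I.subschemeι.preimage_mono inf_le_right) (eY b))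
    obtain ⟨β, hβ⟩ := ((hZ a) (J.subschemeι ⁻¹ᵁ (U a ⊓ U b)) (J.subschemeι.preimage_mono inf_le_left)).2
      (res z (J.subschemeι.preimage_mono inf_le_right) (eZ b))
    dsimp only at hα hβ
    have hW : (aI I J).appLE _ _ (le_aI I J (U a ⊓ U b)) α = (bJ I J).appLE _ _ (le_bJ I J (U a ⊓ U b)) β := by
      have h1 := congrArg (fun s => φ.hom.app _ (puSecLE (aI I J) y (le_aI I J (U a ⊓ U b)) s)) hα
      rw [KFlatLib.puSecLE_smul, QCohLib.app_smul, app_puSecLE_res φ inf_le_left (eY a),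
        app_puSecLE_res φ inf_le_right (eY b), hYZ, hYZ] at h1
      have h2 := congrArg (puSecLE (bJ I J) z (le_bJ I J (U a ⊓ U b))) hβ
      rw [KFlatLib.puSecLE_smul, CubeLib.puSecLE_res, CubeLib.puSecLE_res] at h2
      rw [CubeLib.res_puSecLE, CubeLib.res_puSecLE, ← h2] at h1
      exact ((CubeLib.genOn_puSecLE (bJ I J) (hZ a)
        ((le_bJ I J (U a ⊓ U b)).trans ((bJ I J).preimage_mono (J.subschemeι.preimage_mono inf_le_left))))
          _ le_rfl).1 (by simp only [res_refl]; exact h1)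
    obtain ⟨c, h₁, h₂⟩ := exists_app hIJ (U a ⊓ U b) α β hW
    exact ⟨c, h₁.symm ▸ hα, h₂.symm ▸ hβ⟩
  choose c hcY hcZ using hc
  have htrans : ∀ (a b d : X) (V : X.Opens) (ha : V ≤ U a) (hb : V ≤ U b) (hd : V ≤ U d),
      rX (le_inf ha hb) (c a b) * rX (le_inf hb hd) (c b d) = rX (le_inf ha hd) (c a d) := by
    intro a b d V ha hb hd
    refine eq_of_app hIJ V _ _ ?_ ?_
    · have k : ∀ (p q : X) (hp : V ≤ U p) (hq : V ≤ U q),
          I.subschemeι.app V (rX (le_inf hp hq) (c p q)) • res y (I.subschemeι.preimage_mono hp) (eY p) =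
            res y (I.subschemeι.preimage_mono hq) (eY q) := fun p q hp hq => by
        have h := congrArg (res y (I.subschemeι.preimage_mono (le_inf hp hq))) (hcY p q)
        rw [res_smul, res_res, res_res] at h
        exact (congrArg (· • _) (app_map I.subschemeι (le_inf hp hq) (c p q))).trans h
      refine ((hY a) _ (I.subschemeι.preimage_mono ha)).1 ?_
      dsimp only
      rw [map_mul, mul_comm, mul_smul, k a b ha hb, k b d hb hd, k a d ha hd]
    · have k : ∀ (p q : X) (hp : V ≤ U p) (hq : V ≤ U q),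
          J.subschemeι.app V (rX (le_inf hp hq) (c p q)) • res z (J.subschemeι.preimage_mono hp) (eZ p) =
            res z (J.subschemeι.preimage_mono hq) (eZ q) := fun p q hp hq => by
        have h := congrArg (res z (J.subschemeι.preimage_mono (le_inf hp hq))) (hcZ p q)
        rw [res_smul, res_res, res_res] at h
        exact (congrArg (· • _) (app_map J.subschemeι (le_inf hp hq) (c p q))).trans h
      refine ((hZ a) _ (J.subschemeι.preimage_mono ha)).1 ?_
      dsimp only
      rw [map_mul, mul_comm, mul_smul, k a b ha hb, k b d hb hd, k a d ha hd]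
  have hself : ∀ a, c a a = 1 := fun a => by
    refine eq_of_app hIJ _ _ _ ?_ ?_
    · refine ((hY a) _ (I.subschemeι.preimage_mono inf_le_left)).1 ?_
      dsimp only
      rw [hcY, map_one, one_smul]
    · refine ((hZ a) _ (J.subschemeι.preimage_mono inf_le_left)).1 ?_
      dsimp only
      rw [hcZ, map_one, one_smul]
  let C : Cocycle (X : Type u) U := ⟨c, hself, htrans⟩
  let L := tw C (Coh.structureModule X)
  have hL : PicF.IsInvertible L :=
    AmpleLib.isInvertible_of_gens U (fun x => ⟨x, hxU x⟩) (twGen C) (genOn_twGen C)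
  refine ⟨L, hL, ?_, ?_⟩
  · refine nonempty_iso_of_gens (fun a => I.subschemeι ⁻¹ᵁ U a) (fun w => ⟨I.subschemeι w, hxU _⟩)
      (fun a => puSecLE I.subschemeι L le_rfl (twGen C a)) eY
      (fun a => CubeLib.genOn_puSecLE I.subschemeι (genOn_twGen C a) le_rfl) hY
      fun a b => ⟨I.subschemeι.app _ (c a b), ?_, (hcY a b).symm⟩
    have h := congrArg (puSecLE I.subschemeι L (le_refl (I.subschemeι ⁻¹ᵁ (U a ⊓ U b)))) (res_twGen C a b)
    rw [KFlatLib.puSecLE_smul, CubeLib.puSecLE_res, CubeLib.puSecLE_res, ← Scheme.Hom.app_eq_appLE] at h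
    rw [CubeLib.res_puSecLE, CubeLib.res_puSecLE]
    exact h
  · refine nonempty_iso_of_gens (fun a => J.subschemeι ⁻¹ᵁ U a) (fun w => ⟨J.subschemeι w, hxU _⟩)
      (fun a => puSecLE J.subschemeι L le_rfl (twGen C a)) eZ
      (fun a => CubeLib.genOn_puSecLE J.subschemeι (genOn_twGen C a) le_rfl) hZ
      fun a b => ⟨J.subschemeι.app _ (c a b), ?_, (hcZ a b).symm⟩
    have h := congrArg (puSecLE J.subschemeι L (le_refl (J.subschemeι ⁻¹ᵁ (U a ⊓ U b)))) (res_twGen C a b)
    rw [KFlatLib.puSecLE_smul, CubeLib.puSecLE_res, CubeLib.puSecLE_res, ← Scheme.Hom.app_eq_appLE] at h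
    rw [CubeLib.res_puSecLE, CubeLib.res_puSecLE]
    exact h

end PinchPicLib
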